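import Cfsg.Agent.H603.CC.Defs
import Cfsg.Agent.H664.R1.Heis
import Cfsg.Agent.H40.GGAbs
import Cfsg.Agent.H667.TwoPSUModel

/-!
# S4793, INTEG: `χ 1 - χ t` is a multiple of `q ^ (n - 1)` for a transvection `t` of `GU_n(q)`

The unipotent radical `Q` of the stabilizer of a singular vector `e` consists of the maps
`x ↦ x + B(e,x) y - B(y,x) e + k B(e,x) e`, `B e y = 0`, `k + k ^ q + B y y = 0`; modulo the group `Z` of transvections with centre
`e` it is `e^⊥ / e`, and for `u ∉ Z` every element of `Z` is a commutator `[v, u]`.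
-/

set_option autoImplicit false
set_option linter.unusedSectionVars false

open Cfsg
open scoped ComplexConjugate

namespace Cfsg.Agent.H486.CCInteg

open Module Cfsg.Agent.H603.CC Cfsg.Agent.ClassicalGeometry.HermWitt Cfsg.Agent.Characters.Core
  Cfsg.Agent.CharactersDeep.MackeyLinear

universe u v

variable {F : Type u} {V : Type v} [Field F] [AddCommGroup V] [Module F V] {q : ℕ} {σ : F →+* F}
  {B : V →ₛₗ[σ] V →ₗ[F] F} [Finite F] [Finite V]

variable (B) in
/-- `g` is `x ↦ x + B(e,x) y - B(y,x) e + k B(e,x) e` -/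
def IsT (e y : V) (k : F) (g : UU B) : Prop := ∀ x, ac B g x = x + B e x • y - B y x • e + (k * B e x) • e

theorem IsT.mul (h : HS q σ B) {e y y' : V} {k k' : F} {g g' : UU B} (he : B e e = 0) (hy : B e y = 0)
    (hy' : B e y' = 0) (hg : IsT B e y k g) (hg' : IsT B e y' k' g') :
    IsT B e (y + y') (k + k' - B y y') (g * g') := by
  intro x
  have hye : B y e = 0 := h.zero_symm hy
  rw [ac_mul, hg, hg']
  simp only [map_add, map_sub, map_smul, he, hy', hye, smul_eq_mul, mul_zero, add_zero, sub_zero, LinearMap.add_apply]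
  module

theorem exists_isT (h : HS q σ B) {e y : V} {k : F} (he : B e e = 0) (hy : B e y = 0) (hk : k + σ k + B y y = 0) :
    ∃ g : UU B, IsT B e y k g := by
  have hye : B y e = 0 := h.zero_symm hy
  let T : V →ₗ[F] V := LinearMap.id + (B e).smulRight (y + k • e) - (B y).smulRight e
  have hT : ∀ x, T x = x + B e x • y - B y x • e + (k * B e x) • e := by
    intro x
    simp only [T, LinearMap.sub_apply, LinearMap.add_apply, LinearMap.id_apply, LinearMap.smulRight_apply]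
    module
  have hB : ∀ x z, B (T x) (T z) = B x z := by
    intro x z
    rw [hT, hT]
    simp only [map_add, map_sub, map_smulₛₗ, he, hy, hye, smul_eq_mul, mul_zero, add_zero, sub_zero,
      LinearMap.add_apply, LinearMap.sub_apply, LinearMap.smul_apply, map_mul, RingHom.id_apply, h.sy]
    linear_combination (B x e * B e z) * hk
  have hinj : Function.Injective T := by
    rw [← LinearMap.ker_eq_bot, LinearMap.ker_eq_bot']
    intro x hx
    apply h.ext
    intro z
    rw [← hB, hx, map_zero, LinearMap.zero_apply]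
  exact ⟨mkU (LinearEquiv.ofInjectiveEndo T hinj) hB, hT⟩

theorem IsT.ext {e y : V} {k : F} {g g' : UU B} (hg : IsT B e y k g) (hg' : IsT B e y k g') : g = g' :=
  ac_ext fun x => by rw [hg, hg']

theorem isT_one (e : V) : IsT B e 0 0 (1 : UU B) := fun x => by
  rw [ac_one, map_zero, LinearMap.zero_apply, smul_zero, zero_smul, zero_mul, zero_smul, add_zero, sub_zero, add_zero]

theorem isT_tv {e : V} {k : F} {g : UU B} : IsT B e 0 k g ↔ ∀ x, ac B g x = x + (k * B e x) • e := by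
  refine forall_congr' fun x => ?_
  rw [map_zero, LinearMap.zero_apply, smul_zero, zero_smul, add_zero, sub_zero]

/-- the unipotent radical of the stabilizer of a singular vector -/
def QQ (h : HS q σ B) {e : V} (he : B e e = 0) : Subgroup (UU B) where
  carrier := {g | ∃ (y : V) (k : F), B e y = 0 ∧ k + σ k + B y y = 0 ∧ IsT B e y k g}
  mul_mem' := by
    rintro g g' ⟨y, k, hy, hk, hg⟩ ⟨y', k', hy', hk', hg'⟩
    refine ⟨y + y', k + k' - B y y', by rw [map_add, hy, hy', add_zero], ?_, IsT.mul h he hy hy' hg hg'⟩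
    rw [map_sub, map_add, h.sy, map_add, LinearMap.map_add, LinearMap.add_apply, LinearMap.add_apply]
    linear_combination hk + hk'
  one_mem' := ⟨0, 0, map_zero _, by simp, isT_one e⟩
  inv_mem' := by
    rintro g ⟨y, k, hy, hk, hg⟩
    have hfix : ∀ a : F, σ (σ a) = a := h.inv
    have hk' : σ k + σ (σ k) + B (-y) (-y) = 0 := by
      rw [hfix, map_neg, map_neg, LinearMap.neg_apply, neg_neg, ← hk]
      ring
    have hy' : B e (-y) = 0 := by rw [map_neg, hy, neg_zero]
    obtain ⟨g', hg'⟩ := exists_isT h he hy' hk'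
    have h1 : g * g' = 1 := by
      have h2 := IsT.mul h he hy hy' hg hg'
      rw [add_neg_cancel, map_neg, sub_neg_eq_add, hk] at h2
      exact h2.ext (isT_one e)
    rw [inv_eq_of_mul_eq_one_right h1]
    exact ⟨-y, σ k, hy', hk', hg'⟩

theorem mem_QQ (h : HS q σ B) {e : V} (he : B e e = 0) {g : UU B} :
    g ∈ QQ h he ↔ ∃ (y : V) (k : F), B e y = 0 ∧ k + σ k + B y y = 0 ∧ IsT B e y k g := Iff.rfl

theorem exists_mem_QQ (h : HS q σ B) {e y : V} (he : B e e = 0) (hy : B e y = 0) :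
    ∃ g ∈ QQ h he, ∃ k, k + σ k + B y y = 0 ∧ IsT B e y k g := by
  obtain ⟨k, hk⟩ := trace_surj σ h.ne_id h.inv (-(B y y)) (by rw [map_neg, h.sy])
  have hk' : k + σ k + B y y = 0 := by rw [hk, neg_add_cancel]
  obtain ⟨g, hg⟩ := exists_isT h he hy hk'
  exact ⟨g, ⟨y, k, hy, hk', hg⟩, k, hk', hg⟩

theorem mem_Ref_of_isT {e y : V} {k : F} {g : UU B} (hg : IsT B e y k g) (hy : y ∈ Submodule.span F {e}) : g ∈ Ref B e := by
  obtain ⟨c, rfl⟩ := Submodule.mem_span_singleton.1 hy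
  intro x hx
  have h1 : B e x = 0 := hx e (Submodule.mem_span_singleton_self e)
  have h2 : B (c • e) x = 0 := by
    rw [map_smulₛₗ, LinearMap.smul_apply, h1, smul_zero]
  rw [hg x, h1, h2, zero_smul, zero_smul, mul_zero, zero_smul, add_zero, sub_zero, add_zero]

/-- partner vector -/
theorem exists_partner (h : HS q σ B) {e : V} (he0 : e ≠ 0) : ∃ f, B e f = 1 := by
  obtain ⟨x, hx⟩ : ∃ x, B e x ≠ 0 := by
    by_contra hc
    push Not at hc
    exact he0 (h.ext hc)
  exact ⟨(B e x)⁻¹ • x, by rw [map_smul, smul_eq_mul, inv_mul_cancel₀ hx]⟩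

/-- a vector orthogonal to `e^⊥` is a multiple of `e` -/
theorem mem_span_of_perp (h : HS q σ B) {e y : V} (he0 : e ≠ 0) (hy : ∀ w, B e w = 0 → B w y = 0) :
    y ∈ Submodule.span F {e} := by
  obtain ⟨f, hf⟩ := exists_partner h he0
  refine Submodule.mem_span_singleton.2 ⟨σ (B y f), ?_⟩
  symm
  rw [← sub_eq_zero]
  apply h.ext
  intro x
  have h1 : B y (x - B e x • f) = 0 := by
    apply h.zero_symm
    apply hy
    rw [map_sub, map_smul, hf, smul_eq_mul, mul_one, sub_self]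
  have h2 : B y x = B e x * B y f := by
    rw [map_sub, map_smul, smul_eq_mul, sub_eq_zero] at h1
    exact h1
  rw [map_sub, LinearMap.sub_apply, map_smulₛₗ, LinearMap.smul_apply, h.inv, h2, smul_eq_mul, mul_comm, sub_self]

theorem exists_tv' (h : HS q σ B) {e : V} (he : B e e = 0) {k : F} (hk : k + k ^ q = 0) :
    ∃ t ∈ Ref B e, ∀ x, ac B t x = x + (k * B e x) • e := by
  obtain ⟨g, hg⟩ := exists_isT h (y := 0) (k := k) he (map_zero _) (by rw [h.sig, hk, map_zero, add_zero])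
  exact ⟨g, mem_Ref_of_isT hg (zero_mem _), isT_tv.1 hg⟩

theorem of_mem_Ref_tv' (h : HS q σ B) {e : V} (he0 : e ≠ 0) (he : B e e = 0) {t : UU B} (ht : t ∈ Ref B e) :
    ∃ k : F, k + k ^ q = 0 ∧ ∀ x, ac B t x = x + (k * B e x) • e := by
  obtain ⟨f, hf⟩ := exists_partner h he0
  have hfix : ∀ w, B e w = 0 → ac B t w = w := by
    intro w hw
    apply ht
    intro c hc
    obtain ⟨a, rfl⟩ := Submodule.mem_span_singleton.1 hc
    rw [map_smulₛₗ, LinearMap.smul_apply, hw, smul_zero]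
  have h1 : ac B t f - f ∈ Submodule.span F {e} := by
    apply mem_span_of_perp h he0
    intro w hw
    have h2 := form_ac t w f
    rw [hfix w hw] at h2
    rw [map_sub, h2, sub_self]
  obtain ⟨k, hk⟩ := Submodule.mem_span_singleton.1 h1
  have hk' : ac B t f = f + k • e := by rw [hk]; abel
  have hfe : B f e = 1 := by rw [← h.sy, hf, map_one]
  refine ⟨k, ?_, ?_⟩
  · have h3 := form_ac t f f
    rw [hk'] at h3
    simp only [map_add, map_smulₛₗ, LinearMap.add_apply, LinearMap.smul_apply, he, hf, hfe, h.sig, smul_eq_mul,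
      RingHom.id_apply, mul_zero, mul_one, add_zero] at h3
    linear_combination h3
  · intro x
    have h4 : ac B t (x - B e x • f) = x - B e x • f := by
      apply hfix
      rw [map_sub, map_smul, hf, smul_eq_mul, mul_one, sub_self]
    rw [ac_sub, ac_smul, hk'] at h4
    rw [sub_eq_iff_eq_add.1 h4]
    module

/-- transvections with the same centre are conjugate -/
theorem isConj_tv' (h : HS q σ B) {e : V} (he0 : e ≠ 0) (he : B e e = 0) {s t : UU B} (hs : s ∈ Ref B e)
    (hs1 : s ≠ 1) (ht : t ∈ Ref B e) (ht1 : t ≠ 1) : IsConj s t := by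
  have hne : ∀ {g : UU B} {k : F}, g ≠ 1 → (∀ x, ac B g x = x + (k * B e x) • e) → k ≠ 0 := by
    rintro g k hg hg' rfl
    exact hg (ac_ext fun x => by rw [hg', zero_mul, zero_smul, add_zero, ac_one])
  obtain ⟨k, hk, hsk⟩ := of_mem_Ref_tv' h he0 he hs
  obtain ⟨l, hl, htl⟩ := of_mem_Ref_tv' h he0 he ht
  have hk0 := hne hs1 hsk
  have hl0 := hne ht1 htl
  obtain ⟨c, hc0, hc⟩ := norm_surj σ h.ne_id h.inv (l / k) (by
    rw [map_div₀, h.sig, h.sig, eq_neg_of_add_eq_zero_right hk, eq_neg_of_add_eq_zero_right hl, neg_div_neg_eq])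
    (div_ne_zero hl0 hk0)
  obtain ⟨g, hg, hge⟩ := exists_extension σ B h.ne_id h.inv h.symm h.sep (Submodule.span F {e})
    (c • (Submodule.span F {e}).subtype)
    (fun x y hxy => Subtype.ext (smul_right_injective V hc0 hxy)) (by
      intro x x'
      obtain ⟨a, ha⟩ := Submodule.mem_span_singleton.1 x.2
      obtain ⟨b, hb⟩ := Submodule.mem_span_singleton.1 x'.2
      rw [LinearMap.smul_apply, LinearMap.smul_apply, Submodule.subtype_apply, Submodule.subtype_apply, ← ha, ← hb]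
      simp only [map_smul, map_smulₛₗ, LinearMap.smul_apply, he, smul_zero])
  have hge' : g e = c • e := hge ⟨e, Submodule.mem_span_singleton_self e⟩
  set γ : UU B := mkU g hg with hγ
  have hγe : ac B γ e = c • e := hge'
  refine isConj_iff.2 ⟨γ, ?_⟩
  rw [mul_inv_eq_iff_eq_mul]
  apply ac_ext
  intro x
  rw [ac_mul, ac_mul, hsk, htl, ac_add, ac_smul, hγe]
  have h5 : B e (ac B γ x) = σ c⁻¹ * B e x := by
    rw [← form_ac γ e x, hγe, map_smulₛₗ, LinearMap.smul_apply, smul_eq_mul, ← mul_assoc, ← map_mul,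
      inv_mul_cancel₀ hc0, map_one, one_mul]
  rw [h5, smul_smul, add_right_inj]
  congr 1
  rw [eq_div_iff hk0] at hc
  rw [← hc, map_inv₀]
  have h6 : σ c ≠ 0 := (map_ne_zero σ).2 hc0
  field_simp

theorem Ref_le_QQ (h : HS q σ B) {e : V} (he0 : e ≠ 0) (he : B e e = 0) : Ref B e ≤ QQ h he := by
  intro t ht
  obtain ⟨k, hk, ht'⟩ := of_mem_Ref_tv' h he0 he ht
  exact ⟨0, k, map_zero _, by rw [h.sig, hk, map_zero, add_zero], isT_tv.2 ht'⟩

theorem IsT.apply {e f y : V} {k : F} {g : UU B} (hf : B e f = 1) (hg : IsT B e y k g) :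
    (Submodule.span F {e}).mkQ (ac B g f - f) = (Submodule.span F {e}).mkQ y := by
  rw [hg f, hf, one_smul, mul_one, ← sub_eq_zero, ← map_sub, Submodule.mkQ_apply, Submodule.Quotient.mk_eq_zero,
    Submodule.mem_span_singleton]
  exact ⟨-(B y f) + k, by module⟩

/-- the projection to `V / e` -/
noncomputable def pi (h : HS q σ B) {e f : V} (he : B e e = 0) (hf : B e f = 1) :
    QQ h he →* Multiplicative (V ⧸ Submodule.span F {e}) where
  toFun g := Multiplicative.ofAdd ((Submodule.span F {e}).mkQ (ac B (g : UU B) f - f))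
  map_one' := by
    rw [OneMemClass.coe_one, ac_one, sub_self, map_zero]
    rfl
  map_mul' := by
    rintro ⟨g, y, k, hy, hk, hg⟩ ⟨g', y', k', hy', hk', hg'⟩
    change Multiplicative.ofAdd ((Submodule.span F {e}).mkQ (ac B (g * g') f - f)) = _
    rw [IsT.apply hf (IsT.mul h he hy hy' hg hg'), IsT.apply hf hg, IsT.apply hf hg', map_add]
    rfl

theorem pi_apply (h : HS q σ B) {e f y : V} {k : F} (he : B e e = 0) (hf : B e f = 1) {g : UU B} (hgQ : g ∈ QQ h he)
    (hg : IsT B e y k g) : pi h he hf ⟨g, hgQ⟩ = Multiplicative.ofAdd ((Submodule.span F {e}).mkQ y) := by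
  change Multiplicative.ofAdd ((Submodule.span F {e}).mkQ (ac B g f - f)) = _
  rw [IsT.apply hf hg]

theorem ker_pi (h : HS q σ B) {e f : V} (he0 : e ≠ 0) (he : B e e = 0) (hf : B e f = 1) :
    (pi h he hf).ker = (Ref B e).subgroupOf (QQ h he) := by
  ext ⟨g, hgQ⟩
  rw [MonoidHom.mem_ker, Subgroup.mem_subgroupOf]
  constructor
  · intro h1
    obtain ⟨y, k, hy, hk, hg⟩ := (mem_QQ h he).1 hgQ
    rw [pi_apply h he hf _ hg] at h1
    refine mem_Ref_of_isT hg ?_
    have h2 : (Submodule.span F {e}).mkQ y = 0 := Multiplicative.ofAdd.injective h1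
    rwa [Submodule.mkQ_apply, Submodule.Quotient.mk_eq_zero] at h2
  · intro h1
    obtain ⟨k, hk, ht'⟩ := of_mem_Ref_tv' h he0 he h1
    rw [pi_apply h he hf _ (isT_tv.2 ht'), map_zero]
    rfl

theorem card_range_pi (h : HS q σ B) {e f : V} (he0 : e ≠ 0) (he : B e e = 0) (hf : B e f = 1) :
    Nat.card (pi h he hf).range = (q ^ 2) ^ (finrank F V - 2) := by
  have h1 : Nat.card (pi h he hf).range
      = Nat.card ((perp B (Submodule.span F {e})).map (Submodule.span F {e}).mkQ) := by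
    refine Nat.card_congr (Equiv.subtypeEquiv Multiplicative.toAdd fun a => ?_)
    constructor
    · rintro ⟨⟨g, hgQ⟩, rfl⟩
      obtain ⟨y, k, hy, hk, hg⟩ := (mem_QQ h he).1 hgQ
      rw [pi_apply h he hf _ hg]
      refine ⟨y, ?_, rfl⟩
      intro w hw
      obtain ⟨c, rfl⟩ := Submodule.mem_span_singleton.1 hw
      rw [map_smulₛₗ, LinearMap.smul_apply, hy, smul_zero]
    · rintro ⟨y, hy, hya⟩
      obtain ⟨g, hgQ, k, hk, hg⟩ := exists_mem_QQ h he (hy e (Submodule.mem_span_singleton_self e))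
      refine ⟨⟨g, hgQ⟩, ?_⟩
      rw [pi_apply h he hf _ hg, hya]
      rfl
  have hle : Submodule.span F {e} ≤ perp B (Submodule.span F {e}) := by
    intro x hx w hw
    obtain ⟨c, rfl⟩ := Submodule.mem_span_singleton.1 hx
    obtain ⟨d, rfl⟩ := Submodule.mem_span_singleton.1 hw
    rw [map_smul, map_smulₛₗ, LinearMap.smul_apply, he, smul_zero, smul_zero]
  have h2 := LinearMap.finrank_range_add_finrank_ker
    ((Submodule.span F {e}).mkQ.domRestrict (perp B (Submodule.span F {e})))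
  rw [LinearMap.range_domRestrict, LinearMap.ker_domRestrict, Submodule.ker_mkQ,
    (Submodule.comapSubtypeEquivOfLe hle).finrank_eq, finrank_span_singleton he0] at h2
  have h3 : finrank F (perp B (Submodule.span F {e})) + 1 = finrank F V := by
    have h4 : perp B (Submodule.span F {e}) = LinearMap.ker (B e) := by
      ext x
      rw [LinearMap.mem_ker]
      constructor
      · exact fun hx => hx e (Submodule.mem_span_singleton_self e)
      · intro hx w hw
        obtain ⟨c, rfl⟩ := Submodule.mem_span_singleton.1 hw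
        rw [map_smulₛₗ, LinearMap.smul_apply, hx, smul_zero]
    have h5 : finrank F (LinearMap.range (B e)) = 1 := by
      have h6 : LinearMap.range (B e) = ⊤ := by
        rw [LinearMap.range_eq_top]
        intro a
        exact ⟨a • f, by rw [map_smul, hf, smul_eq_mul, mul_one]⟩
      rw [h6, finrank_top, finrank_self]
    rw [h4, ← h5, add_comm, LinearMap.finrank_range_add_finrank_ker]
  rw [h1, Module.natCard_eq_pow_finrank (K := F), h.card]
  congr 1
  omega

theorem card_Ref_tv (h : HS q σ B) {e : V} (he0 : e ≠ 0) (he : B e e = 0) : Nat.card (Ref B e) = q := by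
  have := Fintype.ofFinite F
  have hF : Fintype.card F = q ^ 2 := by rw [← Nat.card_eq_fintype_card, h.card]
  obtain ⟨f, hf⟩ := exists_partner h he0
  refine Eq.trans ?_ (Cfsg.Agent.H667.TwoPSUModel.card_trace_zero hF)
  symm
  choose t ht ht' using fun k : {x : F // x + x ^ q = 0} => exists_tv' h he k.2
  refine Nat.card_eq_of_bijective (fun k => (⟨t k, ht k⟩ : Ref B e)) ⟨?_, ?_⟩
  · intro k k' hkk
    have h1 : t k = t k' := congrArg Subtype.val hkk
    have h2 := ht' k f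
    rw [h1, ht' k' f, hf, mul_one, mul_one] at h2
    exact Subtype.ext (smul_left_injective F he0 (add_left_cancel h2)).symm
  · rintro ⟨g, hg⟩
    obtain ⟨k, hk, hg'⟩ := of_mem_Ref_tv' h he0 he hg
    exact ⟨⟨k, hk⟩, Subtype.ext (ac_ext fun x => by rw [ht', hg'])⟩

theorem card_QQ (h : HS q σ B) {e : V} (he0 : e ≠ 0) (he : B e e = 0) :
    Nat.card (QQ h he) = (q ^ (finrank F V - 2)) ^ 2 * Nat.card ((Ref B e).subgroupOf (QQ h he)) := by
  obtain ⟨f, hf⟩ := exists_partner h he0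
  rw [← Subgroup.card_mul_index (pi h he hf).ker, Subgroup.index_ker, card_range_pi h he0 he hf, ker_pi h he0 he hf,
    mul_comm, ← pow_mul, ← pow_mul, mul_comm 2]

theorem central (h : HS q σ B) {e : V} (he0 : e ≠ 0) (he : B e e = 0) :
    ∀ z ∈ (Ref B e).subgroupOf (QQ h he), ∀ g, g * z = z * g := by
  rintro ⟨z, hzQ⟩ hz ⟨g, hgQ⟩
  obtain ⟨y, k, hy, hk, hg⟩ := hgQ
  obtain ⟨c, hc, hz'⟩ := of_mem_Ref_tv' h he0 he (Subgroup.mem_subgroupOf.1 hz)
  have hz1 : IsT B e 0 c z := isT_tv.2 hz'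
  apply Subtype.ext
  have h1 := IsT.mul h he hy (map_zero _) hg hz1
  have h2 := IsT.mul h he (map_zero _) hy hz1 hg
  rw [add_zero, map_zero, sub_zero] at h1
  rw [zero_add, map_zero, LinearMap.zero_apply, sub_zero, add_comm c k] at h2
  exact h1.ext h2

theorem exists_commutator (h : HS q σ B) {e : V} (he0 : e ≠ 0) (he : B e e = 0) :
    ∀ u, u ∉ (Ref B e).subgroupOf (QQ h he) → ∀ z ∈ (Ref B e).subgroupOf (QQ h he), ∃ v, v * u * v⁻¹ = u * z := by
  rintro ⟨u, hu⟩ huZ ⟨z, hzQ⟩ hz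
  obtain ⟨y, k, hy, hk, hg⟩ := hu
  obtain ⟨c, hc, hz'⟩ := of_mem_Ref_tv' h he0 he (Subgroup.mem_subgroupOf.1 hz)
  have hz1 : IsT B e 0 c z := isT_tv.2 hz'
  have hy' : y ∉ Submodule.span F {e} := fun hy1 => huZ (Subgroup.mem_subgroupOf.2 (mem_Ref_of_isT hg hy1))
  obtain ⟨w, hew, hwy⟩ : ∃ w, B e w = 0 ∧ B w y ≠ 0 := by
    by_contra hc
    push Not at hc
    exact hy' (mem_span_of_perp h he0 hc)
  have hyw : B y w ≠ 0 := fun h0 => hwy (h.zero_symm h0)
  obtain ⟨θ, hθ⟩ := trace_surj σ h.ne_id h.inv 1 (map_one σ)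
  set y' := (θ * c / B y w) • w with hy'def
  have h1 : B y y' = θ * c := by
    rw [hy'def, map_smul, smul_eq_mul, div_mul_cancel₀ _ hyw]
  have h2 : B y' y = σ (θ * c) := by rw [← h1, h.sy]
  have h3 : B e y' = 0 := by rw [hy'def, map_smul, hew, smul_zero]
  obtain ⟨v, hvQ, k', hk', hv⟩ := exists_mem_QQ h he h3
  refine ⟨⟨v, hvQ⟩, ?_⟩
  rw [mul_inv_eq_iff_eq_mul]
  apply Subtype.ext
  change v * u = u * z * v
  have h4 := IsT.mul h he h3 hy hv hg
  have h5 := IsT.mul h he (by rw [map_add, hy, map_zero, add_zero]) h3 (IsT.mul h he hy (map_zero _) hg hz1) hv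
  have h6 : k + c - B y 0 + k' - B (y + 0) y' = k' + k - B y' y := by
    rw [map_zero, add_zero, h1, h2, map_mul, h.sig c]
    linear_combination (-c) * hθ + σ θ * hc
  rw [h6, add_zero, add_comm y y'] at h5
  exact h4.ext h5

theorem exists_hom {Z : Type*} [Group Z] [Finite Z] (hZ : ∀ a b : Z, a * b = b * a) {a : Z} (ha : a ≠ 1) :
    ∃ ψ : Z →* ℂˣ, ψ a ≠ 1 := by
  let _ : CommGroup Z := { (inferInstance : Group Z) with mul_comm := hZ }
  exact CommGroup.exists_apply_ne_one_of_hasEnoughRootsOfUnity Z ℂ ha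

theorem sum_hom {Z : Type*} [Group Z] [Fintype Z] {ψ : Z →* ℂˣ} {a : Z} (ha : ψ a ≠ 1) :
    ∑ z : Z, (((ψ z)⁻¹ : ℂˣ) : ℂ) = 0 := by
  have h1 : (((ψ a)⁻¹ : ℂˣ) : ℂ) * ∑ z : Z, (((ψ z)⁻¹ : ℂˣ) : ℂ) = ∑ z : Z, (((ψ z)⁻¹ : ℂˣ) : ℂ) := by
    rw [Finset.mul_sum]
    refine Fintype.sum_equiv (Equiv.mulRight a) _ _ fun z => ?_
    rw [Equiv.coe_mulRight, map_mul, mul_inv_rev, Units.val_mul]
  have h2 : (((ψ a)⁻¹ : ℂˣ) : ℂ) ≠ 1 := fun h => ha (by
    have h3 : (ψ a)⁻¹ = 1 := Units.ext h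
    rwa [inv_eq_one] at h3)
  have h4 : ((((ψ a)⁻¹ : ℂˣ) : ℂ) - 1) * ∑ z : Z, (((ψ z)⁻¹ : ℂˣ) : ℂ) = 0 := by
    rw [sub_mul, h1, one_mul, sub_self]
  exact (mul_eq_zero.1 h4).resolve_left (sub_ne_zero.2 h2)

/-- **INTEG.** -/
theorem integrality (h : HS q σ B) (hn3 : 3 ≤ finrank F V) {χ : UU B → ℂ} (hχ : IsCharacter (UU B) χ)
    {t : UU B} (ht : IsTv t) : ∃ b : ℕ, χ 1 - χ t = b * (q : ℂ) ^ (finrank F V - 1) := by
  classical
  have ht' := ht
  obtain ⟨ht1, e, he0, he, hte⟩ := ht'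
  have hq := h.two_le
  set P := QQ h he with hP
  set Z := (Ref B e).subgroupOf P with hZ
  have := Fintype.ofFinite P
  have := Fintype.ofFinite Z
  have hcen := central h he0 he
  have hΘ : IsCharacter P (fun p : P => χ p) := isCharacter_comp P.subtype hχ
  have hcardZ : Nat.card Z = q := by
    rw [← card_Ref_tv h he0 he]
    exact Nat.card_congr (Subgroup.subgroupOfEquivOfLe (Ref_le_QQ h he0 he)).toEquiv
  obtain ⟨n, m, hn, hm, hd, hmn⟩ := Cfsg.Agent.H664.R1.Heis.dvd_sub hcen (exists_commutator h he0 he) (card_QQ h he0 he) hΘ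
  -- values on `Z`
  have hval : ∀ z : Z, z ≠ 1 → χ ((z : P) : UU B) = χ t := by
    intro z hz
    obtain ⟨g, hg⟩ := isConj_iff.1 (isConj_tv' h he0 he hte ht1 (Subgroup.mem_subgroupOf.1 z.2)
      fun h1 => hz (Subtype.ext (Subtype.ext h1)))
    rw [← hg]
    exact isCharacter_isClassFunction hχ t g
  -- a nontrivial character of `Z`
  let t0 : Z := ⟨⟨t, Ref_le_QQ h he0 he hte⟩, Subgroup.mem_subgroupOf.2 hte⟩
  have ht0 : t0 ≠ 1 := fun h1 => ht1 (congrArg (fun z : Z => ((z : P) : UU B)) h1)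
  obtain ⟨ψ, hψ⟩ := exists_hom (fun a b : Z => Subtype.ext (hcen b b.2 a)) ht0
  obtain ⟨m', hm'⟩ := Cfsg.Agent.H40.GG.exists_mult_lin Z ψ hΘ
  have hs1 : ∑ z : Z, χ ((z : P) : UU B) = χ 1 + (q - 1) * χ t := by
    have h1 : ∑ z : Z, (χ ((z : P) : UU B) - χ t) = χ 1 - χ t := by
      rw [Finset.sum_eq_single 1 (fun z _ hz => by rw [hval z hz, sub_self])
        (fun h1 => absurd (Finset.mem_univ _) h1)]
      rfl
    rw [Finset.sum_sub_distrib, Finset.sum_const, Finset.card_univ, ← Nat.card_eq_fintype_card, hcardZ, nsmul_eq_mul] at h1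
    linear_combination h1
  have hs2 : ∑ z : Z, (((ψ z)⁻¹ : ℂˣ) : ℂ) * χ ((z : P) : UU B) = χ 1 - χ t := by
    have h1 : ∑ z : Z, (((ψ z)⁻¹ : ℂˣ) : ℂ) * (χ ((z : P) : UU B) - χ t) = χ 1 - χ t := by
      rw [Finset.sum_eq_single 1 (fun z _ hz => by rw [hval z hz, sub_self, mul_zero])
        (fun h1 => absurd (Finset.mem_univ _) h1), map_one, inv_one, Units.val_one, one_mul]
      rfl
    simp only [mul_sub] at h1
    rw [Finset.sum_sub_distrib, ← Finset.sum_mul, sum_hom hψ, zero_mul, sub_zero] at h1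
    exact h1
  rw [hs1, hcardZ] at hm
  rw [hs2, hcardZ] at hm'
  have hn' : χ 1 = n := hn
  -- `n - m = (q - 1) m'`
  have hq0 : (q : ℂ) ≠ 0 := by
    have : q ≠ 0 := by omega
    exact_mod_cast this
  have h1 : (n : ℂ) - m = (q - 1) * m' := by
    apply mul_left_cancel₀ hq0
    rw [← hn']
    linear_combination hm + (q - 1) * hm'
  have h2 : (n : ℤ) - m = ((q - 1 : ℕ) : ℤ) * m' := by
    have h3 : ((((n : ℤ) - m : ℤ)) : ℂ) = ((((q - 1 : ℕ) : ℤ) * m' : ℤ) : ℂ) := by
      push_cast [Nat.cast_sub (by omega : 1 ≤ q)]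
      exact h1
    exact_mod_cast h3
  rw [h2] at hd
  have h4 : (q ^ (finrank F V - 2) : ℕ) ∣ m' := by
    have h5 : q ^ (finrank F V - 2) ∣ (q - 1) * m' := by exact_mod_cast hd
    refine Nat.Coprime.dvd_of_dvd_mul_left ?_ h5
    apply Nat.Coprime.pow_left
    have h6 : q - 1 + 1 = q := by omega
    rw [← h6]
    simp
  obtain ⟨b, rfl⟩ := h4
  refine ⟨b, ?_⟩
  rw [hm']
  have h7 : finrank F V - 1 = finrank F V - 2 + 1 := by omega
  rw [h7, pow_succ]
  push_cast
  ring

end Cfsg.Agent.H486.CCInteg
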